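import Groth.Agent.S0451
import Groth.Prelude.Def_CInt
import Mathlib.AlgebraicGeometry.Morphisms.FlatMono
import Mathlib.AlgebraicGeometry.Morphisms.SchemeTheoreticallyDominant

/-!
# Flat morphisms that are isomorphisms over schematically dense opens
-/

universe u

open CategoryTheory CategoryTheory.Limits AlgebraicGeometry

namespace Groth.Agent.SchDenseFlat27

variable {X S : Scheme.{u}}

theorem res_res {A B C : X.Opens} (h₁ : B ≤ A) (h₂ : C ≤ B) (x : Γ(X, A)) :
    X.presheaf.map (homOfLE h₂).op (X.presheaf.map (homOfLE h₁).op x) = X.presheaf.map (homOfLE (h₂.trans h₁)).op x := by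
  rw [← ConcreteCategory.comp_apply, ← Functor.map_comp]; rfl

/-- A schematically dense open is scheme-theoretically dominant. -/
theorem dominant_of_schDense (W : X.Opens) [QuasiCompact W.ι] (h : CInt.IsSchematicallyDense W) :
    IsSchemeTheoreticallyDominant W.ι := by
  rw [isSchemeTheoreticallyDominant_iff]
  refine Scheme.IdealSheafData.ext (funext fun V => le_bot_iff.1 fun x hx => ?_)
  rw [Scheme.Hom.ker_apply, RingHom.mem_ker] at hx
  refine (Submodule.mem_bot _).2 (h V.1 ?_)
  rw [map_zero]
  change W.ι.app V.1 x = 0 at hx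
  rw [Scheme.Opens.ι_app] at hx
  have hV : V.1 ⊓ W ≤ W.ι ''ᵁ W.ι ⁻¹ᵁ V.1 := by
    rw [Scheme.Hom.image_preimage_eq_opensRange_inf, Scheme.Opens.opensRange_ι, inf_comm]
  have h1 := (congrArg (X.presheaf.map (homOfLE hV).op) hx).trans (map_zero (X.presheaf.map (homOfLE hV).op).hom)
  exact (res_res _ hV x).symm.trans h1

/-- A separated flat morphism locally of finite type which is an isomorphism over a quasi-compact schematically
dense open is an open immersion. -/
theorem isOpenImmersion_of_iso_over (f : X ⟶ S) [IsSeparated f] [LocallyOfFiniteType f] [Flat f] (U : S.Opens)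
    [QuasiCompact U.ι] [IsSchemeTheoreticallyDominant U.ι] [IsIso (f ∣_ U)] : IsOpenImmersion f := by
  haveI : LocallyOfFinitePresentation (f ∣_ U) := inferInstance
  haveI : LocallyOfFinitePresentation f := S0451.result f U
  let π : pullback f f ⟶ S := pullback.fst f f ≫ f
  haveI : Flat π := inferInstanceAs (Flat (pullback.fst f f ≫ f))
  let O := π ⁻¹ᵁ U
  haveI : IsSchemeTheoreticallyDominant O.ι :=
    IsSchemeTheoreticallyDominant.of_isPullback (isPullback_morphismRestrict π U)
  have hl : ∀ (g : pullback f f ⟶ X), g ≫ f = π → ∀ x, (O.ι ≫ g) x ∈ f ⁻¹ᵁ U := fun g hg x => by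
    show f ((O.ι ≫ g) x) ∈ U
    rw [← Scheme.Hom.comp_apply, Category.assoc, hg]
    exact x.2
  have hr : Set.range (O.ι ≫ pullback.fst f f) ⊆ Set.range (f ⁻¹ᵁ U).ι := by
    rw [Scheme.Opens.range_ι]; rintro _ ⟨x, rfl⟩; exact hl _ rfl x
  have hr' : Set.range (O.ι ≫ pullback.snd f f) ⊆ Set.range (f ⁻¹ᵁ U).ι := by
    rw [Scheme.Opens.range_ι]; rintro _ ⟨x, rfl⟩; exact hl _ pullback.condition.symm x
  have e : IsOpenImmersion.lift (f ⁻¹ᵁ U).ι (O.ι ≫ pullback.fst f f) hr =
      IsOpenImmersion.lift (f ⁻¹ᵁ U).ι (O.ι ≫ pullback.snd f f) hr' := by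
    rw [← cancel_mono (f ∣_ U), ← cancel_mono U.ι, Category.assoc, Category.assoc, morphismRestrict_ι,
      IsOpenImmersion.lift_fac_assoc, IsOpenImmersion.lift_fac_assoc, Category.assoc, Category.assoc,
      pullback.condition]
  have heq : O.ι ≫ pullback.fst f f = O.ι ≫ pullback.snd f f := by
    rw [← IsOpenImmersion.lift_fac (f ⁻¹ᵁ U).ι (O.ι ≫ pullback.fst f f) hr, e, IsOpenImmersion.lift_fac]
  have hfac : (O.ι ≫ pullback.fst f f) ≫ pullback.diagonal f = O.ι := by
    refine pullback.hom_ext ?_ ?_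
    · rw [Category.assoc, pullback.diagonal_fst, Category.comp_id]
    · rw [Category.assoc, pullback.diagonal_snd, Category.comp_id, heq]
  have hker : (pullback.diagonal f).ker = ⊥ := by
    refine le_bot_iff.1 ?_
    rw [← (isSchemeTheoreticallyDominant_iff O.ι).1 inferInstance]
    conv_rhs => rw [← hfac]
    exact Scheme.Hom.le_ker_comp _ _
  haveI : IsClosedImmersion (pullback.diagonal f) := IsSeparated.isClosedImmersion_diagonal
  haveI : IsIso (pullback.diagonal f) := IsClosedImmersion.isIso_iff_ker_eq_bot.2 hker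
  haveI : Mono f := (pullback.isIso_diagonal_iff f).1 inferInstance
  exact IsOpenImmersion.of_flat_of_mono f

end Groth.Agent.SchDenseFlat27
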