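import Groth.Agent.Lib.SchDenseFlat27.Scheme
import Groth.Agent.Lib.SchImage14.DenseSpace
import Groth.Agent.Lib.FiniteMor15.FlatDense
import Groth.Agent.Lib.AlgSpace.LqfDescent
import Groth.Agent.Lib.AlgSpace.DVRSeparated

/-!
# Flat morphisms of spaces over schematically dense open subspaces
-/

universe u

set_option backward.isDefEq.respectTransparency.types false

open CategoryTheory CategoryTheory.Limits AlgebraicGeometry Opposite MorphismProperty AlgSp

namespace Groth.Agent.SchDenseFlat27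

open Groth.Agent.AlgSpace Groth.Agent.AlgSpDecent Groth.Agent.AlgSpRel14

variable {S : Scheme.{u}} {X Y V P : Space S} {f : X ⟶ Y} {j : V ⟶ Y}

/-- On every etale chart a quasi-compact schematically dense open subspace is scheme-theoretically dominant. -/
theorem exists_chart_open (hjq : IsQuasiCompactMor j.hom) (hjd : IsSchDense j.hom) {W : Over S}
    {b : (yon S).obj W ⟶ Y.obj} (hbe : RepWith @Etale b) :
    ∃ (O : W.left.Opens) (fstO : (yon S).obj (Over.mk (O.ι ≫ W.hom)) ⟶ V.obj),
      IsPullback fstO ((yon S).map (Over.homMk O.ι rfl : Over.mk (O.ι ≫ W.hom) ⟶ W)) j.hom b ∧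
        QuasiCompact O.ι ∧ IsSchemeTheoreticallyDominant O.ι := by
  obtain ⟨O, fstO, sq⟩ := SchImage14.exists_isPullback_open hjd.1 b
  have hq : QuasiCompact O.ι :=
    ((repWith_quasiCompact_iff V.property Y.property hjd.1.1).2 hjq).2 b _ _ sq
  exact ⟨O, fstO, sq, hq, dominant_of_schDense O (SchImage14.isSchematicallyDense_chart hjd hbe sq)⟩

/-- The range of a quasi-compact schematically dense open subspace is dense. -/
theorem dense_range (hjq : IsQuasiCompactMor j.hom) (hjd : IsSchDense j.hom) :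
    Dense (Set.range (Points.map j.hom)) := by
  obtain ⟨W, b, hbe, hbs⟩ := Y.property.atlas
  obtain ⟨O, fstO, sq, hq, hd⟩ := exists_chart_open hjq hjd hbe
  have h : Dense (O : Set W.left) := by
    have := O.ι.denseRange
    rwa [DenseRange, Scheme.Opens.range_ι] at this
  refine ((surjective_ofPt hbs).denseRange.dense_image (Points.continuous_ofPt b) h).mono ?_
  rintro _ ⟨w, hw, rfl⟩
  exact (SchImage14.mem_iff_ofPt_mem sq w).1 hw

section Restrict

variable {fst : P ⟶ X} {snd : P ⟶ V} (hP : IsPullback fst.hom snd.hom f.hom j.hom)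
  {U W : Over S} {a : (yon S).obj U ⟶ X.obj} {b : (yon S).obj W ⟶ Y.obj} {h : U ⟶ W}
  (w : a ≫ f.hom = (yon S).map h ≫ b) {O : W.left.Opens}
  {fstO : (yon S).obj (Over.mk (O.ι ≫ W.hom)) ⟶ V.obj}
  (sqO : IsPullback fstO ((yon S).map (Over.homMk O.ι rfl : Over.mk (O.ι ≫ W.hom) ⟶ W)) j.hom b)

/-- The restriction of a chart to an open of the base. -/
noncomputable abbrev resHom (h : U ⟶ W) (O : W.left.Opens) :
    Over.mk ((h.left ⁻¹ᵁ O).ι ≫ U.hom) ⟶ Over.mk (O.ι ≫ W.hom) :=
  Over.homMk (h.left ∣_ O) (by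
    change (h.left ∣_ O) ≫ O.ι ≫ W.hom = _
    rw [morphismRestrict_ι_assoc, CategoryTheory.Over.w h]; rfl)

theorem isPullback_resHom (h : U ⟶ W) (O : W.left.Opens) :
    IsPullback ((yon S).map (resHom h O))
      ((yon S).map (Over.homMk (h.left ⁻¹ᵁ O).ι rfl : Over.mk ((h.left ⁻¹ᵁ O).ι ≫ U.hom) ⟶ U))
      ((yon S).map (Over.homMk O.ι rfl : Over.mk (O.ι ≫ W.hom) ⟶ W)) ((yon S).map h) := by
  refine IsPullback.map (yon S) (IsPullback.of_map (Over.forget S) ?_ (isPullback_morphismRestrict h.left O))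
  exact Over.OverMorphism.ext (morphismRestrict_ι h.left O)

include hP w sqO in
theorem exists_restrict_chart :
    ∃ a' : (yon S).obj (Over.mk ((h.left ⁻¹ᵁ O).ι ≫ U.hom)) ⟶ P.obj,
      IsPullback ((yon S).map (Over.homMk (h.left ⁻¹ᵁ O).ι rfl : Over.mk ((h.left ⁻¹ᵁ O).ι ≫ U.hom) ⟶ U))
        a' a fst.hom ∧ a' ≫ snd.hom = (yon S).map (resHom h O) ≫ fstO := by
  have big := (isPullback_resHom h O).flip.paste_vert sqO.flip
  have hw : ((yon S).map (Over.homMk (h.left ⁻¹ᵁ O).ι rfl : Over.mk ((h.left ⁻¹ᵁ O).ι ≫ U.hom) ⟶ U) ≫ a) ≫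
      f.hom = ((yon S).map (resHom h O) ≫ fstO) ≫ j.hom := by
    rw [Category.assoc, w, big.w]
  refine ⟨hP.lift _ _ hw, ?_, hP.lift_snd _ _ hw⟩
  refine (IsPullback.of_right ?_ (hP.lift_fst _ _ hw) hP.flip).flip
  rw [hP.lift_snd _ _ hw, w]
  exact big.flip

end Restrict

/-- Lfp descends from a quasi-compact schematically dense open subspace. -/
theorem locP_lfp (hf1 : LocP @LocallyOfFiniteType f.hom) (hf2 : LocP @Flat f.hom)
    (hjq : IsQuasiCompactMor j.hom) (hjd : IsSchDense j.hom)
    {fst : P ⟶ X} {snd : P ⟶ V} (hP : IsPullback fst.hom snd.hom f.hom j.hom)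
    (hV : LocP @LocallyOfFinitePresentation snd.hom) :
    LocP @LocallyOfFinitePresentation f.hom := by
  intro U W a b h hae hbe w
  obtain ⟨O, fstO, sqO, hq, hd⟩ := exists_chart_open hjq hjd hbe
  obtain ⟨a', sqa, w'⟩ := exists_restrict_chart hP w sqO
  have hl : LocallyOfFinitePresentation (h.left ∣_ O) :=
    hV a' fstO (resHom h O) (repWith_of_isPullback sqa hae) (repWith_of_isPullback sqO.flip hbe) w'
  have : LocallyOfFiniteType h.left := hf1 a b h hae hbe w
  have : Flat h.left := hf2 a b h hae hbe w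
  exact Groth.Agent.S0451.result h.left O

/-- A flat morphism which is an isomorphism over a schematically dense open is locally quasi-finite. -/
theorem locP_lqf (hf1 : LocP @LocallyOfFiniteType f.hom) (hf2 : LocP @Flat f.hom)
    (hjq : IsQuasiCompactMor j.hom) (hjd : IsSchDense j.hom)
    {fst : P ⟶ X} {snd : P ⟶ V} (hP : IsPullback fst.hom snd.hom f.hom j.hom)
    [IsIso snd.hom] : LocP LqfLft f.hom := by
  have hs : LocP LqfLft snd.hom := locP_of_repWith V.property
    (repWith_mono (Q := LqfLft) (fun _ _ g (_ : IsOpenImmersion g) =>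
      (⟨inferInstanceAs (LocallyQuasiFinite g), inferInstanceAs (LocallyOfFiniteType g)⟩ : LqfLft g))
      (repWith_of_isIso @IsOpenImmersion snd.hom))
  rw [locP_iff_forall_hasAtMor_near LqfLft X.property Y.property]
  intro x
  have h1 := FiniteMor15.relDim_le_of_flat_dense f j 0 hf2 hf1 hjd.1 (dense_range hjq hjd) fst snd hP
    (fun p => ?_) (Or.inr hjq) x
  · obtain ⟨U, W, a, b, k, u, hae, hbe, w, rfl⟩ := exists_diagram X.property Y.property f.hom x
    have := lft_of_chart hf1 hae hbe w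
    rw [hasAtMor_near_iff LqfLft hae hbe w, near_lqf_iff]
    rw [hasAtMor_fibreDimAt_iff (R := fun t => t ≤ ((0 : ℕ) : WithBot ℕ∞)) hf1 hae hbe w] at h1
    obtain ⟨x', -, -, hd, -⟩ := FibDim14.exists_fibreDimAt_eq k.left u
    rw [hd, Nat.cast_le] at h1
    rw [hd, Nat.le_zero.1 h1]; rfl
  · obtain ⟨U, W, a, b, k, u, hae, hbe, w, rfl⟩ := exists_diagram P.property V.property snd.hom p
    have := lft_of_chart (locP_mono (fun _ _ _ h => h.2) hs) hae hbe w
    have : LocallyQuasiFinite k.left := (hs a b k hae hbe w).1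
    exact ⟨U, W, a, b, k, u, hae, hbe, w, rfl, by beta_reduce; rw [FibDim14.fibreDimAt_eq_zero k.left u]; rfl⟩

/-- A separated flat morphism of spaces which is an isomorphism over a schematically dense open is an open immersion. -/
theorem repWith_isOpenImmersion (hf1 : IsSeparatedMor f.hom) (hf2 : LocP @LocallyOfFiniteType f.hom)
    (hf3 : LocP @Flat f.hom) (hjq : IsQuasiCompactMor j.hom) (hjd : IsSchDense j.hom)
    {fst : P ⟶ X} {snd : P ⟶ V} (hP : IsPullback fst.hom snd.hom f.hom j.hom)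
    [IsIso snd.hom] : RepWith @IsOpenImmersion f.hom := by
  have hq := locP_lqf hf2 hf3 hjq hjd hP
  obtain ⟨W, b, hbe, hbs⟩ := Y.property.atlas
  have := isLocallySurjective_of_etale hbe hbs
  obtain ⟨G, g₀, e₀, sq⟩ := representable_of_lqf_separated X.property Y.property f.hom hf1 hq b
  have sq : IsPullback e₀ ((yon S).map g₀) f.hom b := sq
  have hG := IsAlgSpace.yon_obj (S := S) W
  have : IsSeparated g₀.left := (isSeparatedMor_yon_map_iff g₀).1 (isSeparatedMor_of_isPullback sq hf1)
  have : LocallyOfFiniteType g₀.left := locP_yon_map (locP_of_isPullback X.property Y.property hG sq hf2)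
  have : Flat g₀.left := locP_yon_map (locP_of_isPullback X.property Y.property hG sq hf3)
  obtain ⟨O, fstO, sqO, hqc, hd⟩ := exists_chart_open hjq hjd hbe
  obtain ⟨a', -, w'⟩ := exists_restrict_chart hP sq.w sqO
  have big := (isPullback_resHom g₀ O).flip.paste_horiz sq
  rw [← sqO.w] at big
  have hw := big.w
  rw [← Category.assoc] at hw
  have sqs : IsPullback (hP.lift _ _ hw) ((yon S).map (resHom g₀ O)) snd.hom fstO :=
    IsPullback.of_right (by rw [hP.lift_fst]; exact big) (hP.lift_snd _ _ hw) hP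
  have : IsIso ((yon S).map (resHom g₀ O)) := sqs.isIso_snd_of_isIso
  have : IsIso (resHom g₀ O) := isIso_of_fully_faithful (yon S) _
  have : IsIso (g₀.left ∣_ O) := (Over.forget S).map_isIso (resHom g₀ O)
  have hi : IsOpenImmersion g₀.left := isOpenImmersion_of_iso_over g₀.left O
  exact repWith_of_locSurj_lqf (P := @IsOpenImmersion)
    (fun _ _ k (_ : IsOpenImmersion k) => ⟨inferInstance, inferInstance, inferInstance⟩) sq
    ((repWith_yon_map_iff _ _).2 hi)

end Groth.Agent.SchDenseFlat27
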